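import Mathlib.AlgebraicGeometry.Noetherian
import Mathlib.AlgebraicGeometry.Properties

/-!
Maximal points of schemes.
-/

set_option autoImplicit false

universe u

open AlgebraicGeometry TopologicalSpace Topology

namespace Groth.Agent.GenPtLib

variable {α : Type*} [TopologicalSpace α] [QuasiSober α] [T0Space α]

theorem exists_maximal (x : α) : ∃ ξ, ξ ⤳ x ∧ ∀ z, z ⤳ ξ → z = ξ := by
  obtain ⟨ξ, hξ⟩ := QuasiSober.sober (isIrreducible_irreducibleComponent (x := x)) isClosed_irreducibleComponent
  refine ⟨ξ, hξ.specializes mem_irreducibleComponent, fun z hz => ?_⟩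
  have hsub : closure ({z} : Set α) ⊆ irreducibleComponent x :=
    (irreducibleComponent_mem_irreducibleComponents x).2 isIrreducible_singleton.closure
      (hξ.def ▸ hz.closure_subset)
  exact (hz.antisymm (hξ.specializes (hsub (subset_closure rfl)))).eq

theorem closure_mem_irreducibleComponents {ξ : α} (h : ∀ z, z ⤳ ξ → z = ξ) :
    closure ({ξ} : Set α) ∈ irreducibleComponents α := by
  refine ⟨isIrreducible_singleton.closure, fun Z hZ hle => ?_⟩
  obtain ⟨z, hz⟩ := QuasiSober.sober hZ.closure isClosed_closure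
  have := h z (hz.specializes (subset_closure (hle (subset_closure rfl))))
  exact subset_closure.trans (this ▸ hz.def.ge)

omit [QuasiSober α] in
theorem eq_of_specializes {Z : Set α} (hZ : Z ∈ irreducibleComponents α) {η : α} (hη : IsGenericPoint η Z)
    {z : α} (hz : z ⤳ η) : z = η := by
  have hsub : closure ({z} : Set α) ⊆ Z :=
    hZ.2 isIrreducible_singleton.closure (hη.def ▸ hz.closure_subset)
  exact (hz.antisymm (hη.specializes (hsub (subset_closure rfl)))).eq

section

variable {Y : Scheme.{u}} [IsLocallyNoetherian Y]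

theorem exists_nhd_noetherian (y : Y) :
    ∃ V : Set Y, IsOpen V ∧ y ∈ V ∧ NoetherianSpace V := by
  obtain ⟨_, ⟨U : Y.Opens, (hU : IsAffineOpen U), rfl⟩, hyU, -⟩ :=
    Y.isBasis_affineOpens.exists_subset_of_mem_open (Set.mem_univ y) isOpen_univ
  haveI : IsNoetherianRing Γ(Y, U) := IsLocallyNoetherian.component_noetherian ⟨U, hU⟩
  exact ⟨U, U.2, hyU, noetherianSpace_of_isAffineOpen U hU⟩

omit [IsLocallyNoetherian Y] in
theorem exists_specializes_of_dense {V : Set Y} (hV : NoetherianSpace V) {U : Set Y} (hd : Dense U)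
    (hU : IsOpen U) (hVo : IsOpen V) {y : Y} (hy : y ∈ V) : ∃ z, z ∈ U ∩ V ∧ z ⤳ y := by
  haveI : QuasiSober V := hVo.isOpenEmbedding_subtypeVal.quasiSober
  obtain ⟨ξ, hξy, hmax⟩ := exists_maximal (⟨y, hy⟩ : V)
  refine ⟨ξ.1, ⟨?_, ξ.2⟩, hξy.map continuous_subtype_val⟩
  by_contra hξU
  have hfin := NoetherianSpace.finite_irreducibleComponents (α := V)
  set D : Set V := ⋃ W ∈ irreducibleComponents V \ {closure {ξ}}, W with hDdef
  have hDc : IsClosed D := hfin.sdiff.isClosed_biUnion fun W hW => isClosed_of_mem_irreducibleComponents W hW.1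
  have hξD : ξ ∉ D := by
    intro h
    obtain ⟨W, hW, hξW⟩ := Set.mem_iUnion₂.1 h
    refine hW.2 (subset_antisymm ((closure_mem_irreducibleComponents hmax).2 hW.1.1 ?_) ?_)
    · exact closure_minimal (Set.singleton_subset_iff.2 hξW) (isClosed_of_mem_irreducibleComponents W hW.1)
    · exact closure_minimal (Set.singleton_subset_iff.2 hξW) (isClosed_of_mem_irreducibleComponents W hW.1)
  obtain ⟨w, hwD, hwU⟩ := (hd.preimage hVo.isOpenEmbedding_subtypeVal.isOpenMap).inter_open_nonempty Dᶜ
    hDc.isOpen_compl ⟨ξ, hξD⟩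
  obtain ⟨η, hη⟩ := QuasiSober.sober (isIrreducible_irreducibleComponent (x := w)) isClosed_irreducibleComponent
  have he : irreducibleComponent w = closure {ξ} := by
    by_contra hne
    exact hwD (Set.mem_iUnion₂.2 ⟨_, ⟨irreducibleComponent_mem_irreducibleComponents w, hne⟩, mem_irreducibleComponent⟩)
  have hspec : ξ ⤳ w := specializes_iff_mem_closure.2 (he ▸ mem_irreducibleComponent)
  exact hξU ((hspec.map continuous_subtype_val).mem_open hU hwU)

/-- A closed set stable under generalization in a locally Noetherian scheme is open. -/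
theorem isOpen_of_isClosed_of_stableUnderGeneralization {Z : Set Y} (hZ : IsClosed Z)
    (hg : StableUnderGeneralization Z) : IsOpen Z := by
  refine isOpen_iff_forall_mem_open.2 fun y hy => ?_
  obtain ⟨V, hVo, hyV, hV⟩ := exists_nhd_noetherian y
  haveI : QuasiSober V := hVo.isOpenEmbedding_subtypeVal.quasiSober
  have hfin := NoetherianSpace.finite_irreducibleComponents (α := V)
  set D : Set V := ⋃ W ∈ irreducibleComponents V ∩ {W | ¬ W ⊆ Subtype.val ⁻¹' Z}, W
  have hDc : IsClosed D :=
    (hfin.inter_of_left _).isClosed_biUnion fun W hW => isClosed_of_mem_irreducibleComponents W hW.1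
  refine ⟨Subtype.val '' Dᶜ, ?_, hVo.isOpenEmbedding_subtypeVal.isOpenMap _ hDc.isOpen_compl, ⟨y, hyV⟩, ?_, rfl⟩
  · rintro _ ⟨w, hw, rfl⟩
    by_contra hwZ
    exact hw (Set.mem_iUnion₂.2 ⟨_, ⟨irreducibleComponent_mem_irreducibleComponents w,
      fun h => hwZ (h mem_irreducibleComponent)⟩, mem_irreducibleComponent⟩)
  · intro h
    obtain ⟨W, ⟨hW, hWZ⟩, hyW⟩ := Set.mem_iUnion₂.1 h
    obtain ⟨η, hη⟩ := QuasiSober.sober hW.1 (isClosed_of_mem_irreducibleComponents W hW)
    refine hWZ fun w hw => ?_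
    exact ((hη.specializes hw).map continuous_subtype_val).mem_closed hZ
      (hg ((hη.specializes hyW).map continuous_subtype_val) hy)

end

end Groth.Agent.GenPtLib
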